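import Cfsg.Agent.H970.B4.Up

/-!
# S4925 from its case `p = 2`, `k_0 = 4 → |P : P'| = 4`
-/

set_option autoImplicit false

open Cfsg Subgroup

namespace Cfsg.Agent.H970.B4

/-- a natural number which is a power of an odd prime is not `4` -/
theorem pow_ne_four {p n : ℕ} (hp : p.Prime) (hp2 : p ≠ 2) : p ^ n ≠ 4 := by
  intro h
  have h2 : (2 : ℕ) ∣ p ^ n := by rw [h]; norm_num
  exact hp2 ((Nat.prime_dvd_prime_iff_eq Nat.prime_two hp).1 (Nat.prime_two.dvd_of_dvd_pow h2)).symm

/-- S4925 for odd `p`. -/
theorem iff_of_odd {G : Type*} [Group G] [Finite G] {p : ℕ} [Fact p.Prime] {M : Ideal AlgInt}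
    (hM : IsPModular p M) (hp2 : p ≠ 2) (P : Sylow p G) :
    H774.K0.k0 p M G = 4 ↔
      ((commutator ↥P).index = 4 ∨ (Nat.card P = 5 ∧
        (Subgroup.centralizer ((P : Subgroup G) : Set G)).relIndex
          (Subgroup.normalizer ((P : Subgroup G) : Set G)) = 2)) := by
  have hp : p.Prime := Fact.out
  have hno : (commutator ↥P).index ≠ 4 := by
    intro h
    have h1 : (commutator (P : Subgroup G)).index ∣ Nat.card (P : Subgroup G) :=
      Subgroup.index_dvd_card _
    obtain ⟨n, hn⟩ := IsPGroup.iff_card.1 P.isPGroup'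
    have hn' : Nat.card (P : Subgroup G) = p ^ n := hn
    rw [hn', Nat.dvd_prime_pow hp] at h1
    obtain ⟨m, -, hm⟩ := h1
    exact pow_ne_four hp hp2 (hm.symm.trans h)
  rw [or_iff_right hno]
  constructor
  · intro hk
    rcases H774.K0.card_of_k0_le hM hp2 (by omega) P with h | h
    · have := H774.K0.k0_eq_one hM h
      omega
    · obtain ⟨⟨f, hf⟩, h2⟩ := H774.K0.k0_of_card_eq_prime hM hp2 P h rfl
      generalize (Subgroup.centralizer ((P : Subgroup G) : Set G)).relIndex
        (Subgroup.normalizer ((P : Subgroup G) : Set G)) = e at hf h2 ⊢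
      have hp1 : 0 < p - 1 := by have := hp.two_le; omega
      have he0 : 0 < e := by
        rcases Nat.eq_zero_or_pos e with h0 | h0
        · rw [h0, zero_mul] at hf; omega
        · exact h0
      rw [hk, hf, Nat.mul_div_cancel_left f he0] at h2
      have he5 : e ≤ 4 := by omega
      have hf5 : f = 4 - e := by omega
      rw [h]
      subst hf5
      have h4 : p ≠ 4 := by rintro rfl; exact absurd hp (by norm_num)
      interval_cases e
      · omega
      · exact ⟨by omega, rfl⟩
      · omega
      · omega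
  · rintro ⟨h5, he⟩
    have hcard : Nat.card P = p := by
      obtain ⟨n, hn⟩ := IsPGroup.iff_card.1 P.isPGroup'
      have hn' : Nat.card P = p ^ n := hn
      have hn0 : n ≠ 0 := by
        rintro rfl
        rw [hn', pow_zero] at h5
        omega
      have hdvd : p ∣ Nat.card P := by rw [hn']; exact dvd_pow_self p hn0
      rw [h5] at hdvd ⊢
      exact ((Nat.prime_dvd_prime_iff_eq hp (by norm_num)).1 hdvd).symm
    obtain ⟨-, h2⟩ := H774.K0.k0_of_card_eq_prime hM hp2 P hcard rfl
    rw [h2, he, ← hcard, h5]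

/-- S4925 from the implication `k_0(B_0) = 4 → |P : P'| = 4` for `p = 2`. -/
theorem s4925_of {G : Type*} [Group G] [Finite G] (p : ℕ) [Fact p.Prime] {M : Ideal AlgInt}
    (hM : IsPModular p M) (P : Sylow p G)
    (hred : p = 2 → Nat.card {χ : IrrCharacter G // χ ∈ principalBlock M G ∧
      ¬ p ∣ charDegree (χ : G → ℂ)} = 4 → (commutator ↥P).index = 4) :
    Nat.card {χ : IrrCharacter G // χ ∈ principalBlock M G ∧ ¬ p ∣ charDegree (χ : G → ℂ)} = 4 ↔
      ((commutator ↥P).index = 4 ∨ (Nat.card P = 5 ∧
        (Subgroup.centralizer ((P : Subgroup G) : Set G)).relIndex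
          (Subgroup.normalizer ((P : Subgroup G) : Set G)) = 2)) := by
  rcases eq_or_ne p 2 with rfl | hp2
  · constructor
    · intro hk
      exact Or.inl (hred rfl hk)
    · rintro (h | ⟨h5, -⟩)
      · exact k0_of_index_four hM P h
      · exfalso
        obtain ⟨n, hn⟩ := IsPGroup.iff_card.1 P.isPGroup'
        have hn' : Nat.card P = 2 ^ n := hn
        rw [h5] at hn'
        rcases n with _ | n
        · norm_num at hn'
        · rw [pow_succ] at hn'
          omega
  · exact iff_of_odd hM hp2 P

end Cfsg.Agent.H970.B4
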